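import Cfsg.Agent.H269.EB515.MemInd

/-!
# T1b1 of S4822: inducing a character of the principal block from a subgroup `U ≥ P C_G(P)`
-/

set_option autoImplicit false

namespace Cfsg.Agent.H531.KB

open Cfsg Subgroup

universe u

variable {G : Type u} [Group G] [Finite G] {p : ℕ} [Fact p.Prime] {M : Ideal AlgInt}

/-- **T1b1.** -/
theorem mem_of_induced (hM : IsPModular p M) (P : Sylow p G) (U : Subgroup G) (hPU : (P : Subgroup G) ≤ U)
    (hCU : centralizer ((P : Subgroup G) : Set G) ≤ U) (ψ : IrrCharacter U) (hψ : ψ ∈ principalBlock M U)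
    (χ : IrrCharacter G) (h : (χ : G → ℂ) = @indFun G _ (Fintype.ofFinite G) U (ψ : U → ℂ)) :
    χ ∈ principalBlock M G := by
  classical
  let _ : Fintype G := Fintype.ofFinite G
  let _ : Fintype U := Fintype.ofFinite U
  have hirr : IsIrrCharacter G (indFun U (ψ : U → ℂ)) := h ▸ χ.2
  have h1 := H269.EB515.mem_of_ind hM U (P : Subgroup G) P.isPGroup' hPU hCU ψ hψ hirr
  have h2 : χ = ⟨indFun U (ψ : U → ℂ), hirr⟩ := Subtype.ext h
  rw [h2]
  exact h1

end Cfsg.Agent.H531.KB
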